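import Mathlib
import Cfsg.Agent.Lib.Helper14.PG63.Defs

/-!
# Project PG63 (S3664), package [CLS]: the elements of `Sz(8)` by their trace
-/

set_option autoImplicit false

namespace Cfsg.Agent.Lib.Helper80.PG63

open Matrix Polynomial Cfsg.Agent.Lib.Helper14.PG63

universe u

theorem poly5_80 {R : Type*} [CommRing R] (h2 : (2 : R) = 0) (x : R) :
    x ^ 5 + 1 = (x ^ 4 + x ^ 3 + x ^ 2 + x + 1) * (x + 1) := by
  linear_combination (-(x ^ 4 + x ^ 3 + x ^ 2 + x)) * h2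

theorem poly7_80 {R : Type*} [CommRing R] (h2 : (2 : R) = 0) (t x : R) (ht : t ^ 3 = t + 1) :
    x ^ 7 + 1 = (x ^ 4 + t * x ^ 3 + t ^ 4 * x ^ 2 + t * x + 1) *
      (x ^ 3 + t * x ^ 2 + t * x + 1) := by
  linear_combination ((-1) * x ^ 3 + (-1) * x ^ 4 + (-1) * t * x ^ 2 + (-1) * t * x ^ 5 + (-1) * t ^ 2 * x ^ 3 + (-1) * t ^ 2 * x ^ 4) * ht + ((-1) * x ^ 3 + (-1) * x ^ 4 + (-1) * t * x + (-1) * t * x ^ 2 + (-1) * t * x ^ 3 + (-1) * t * x ^ 4 + (-1) * t * x ^ 5 + (-1) * t * x ^ 6 + (-1) * t ^ 2 * x ^ 2 + (-1) * t ^ 2 * x ^ 3 + (-1) * t ^ 2 * x ^ 4 + (-1) * t ^ 2 * x ^ 5) * h2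

set_option maxHeartbeats 1000000 in
theorem poly13_80 {R : Type*} [CommRing R] (h2 : (2 : R) = 0) (t x : R)
    (ht : t ^ 3 = t ^ 2 + 1) :
    x ^ 13 + 1 = (x ^ 4 + t * x ^ 3 + t ^ 4 * x ^ 2 + t * x + 1) *
      (x ^ 9 + t * x ^ 8 + (1 + t) * x ^ 7 + (1 + t + t ^ 2) * x ^ 6 + t * x ^ 5 + t * x ^ 4 +
        (1 + t + t ^ 2) * x ^ 3 + (1 + t) * x ^ 2 + t * x + 1) := by
  linear_combination ((-1) * x ^ 2 + (-1) * x ^ 3 + (-3) * x ^ 4 + (-4) * x ^ 5 + (-2) * x ^ 6 + (-2) * x ^ 7 + (-4) * x ^ 8 + (-3) * x ^ 9 + (-1) * x ^ 10 + (-1) * x ^ 11 + (-1) * t * x ^ 2 + (-1) * t * x ^ 3 + (-2) * t * x ^ 4 + (-3) * t * x ^ 5 + (-1) * t * x ^ 6 + (-1) * t * x ^ 7 + (-3) * t * x ^ 8 + (-2) * t * x ^ 9 + (-1) * t * x ^ 10 + (-1) * t * x ^ 11 + (-1) * t ^ 2 * x ^ 3 + (-1) * t ^ 2 * x ^ 4 + (-2) * t ^ 2 * x ^ 5 + (-1) * t ^ 2 * x ^ 6 + (-1) * t ^ 2 * x ^ 7 + (-2) * t ^ 2 * x ^ 8 + (-1) * t ^ 2 * x ^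 9 + (-1) * t ^ 2 * x ^ 10 + (-1) * t ^ 3 * x ^ 5 + (-1) * t ^ 3 * x ^ 8) * ht + ((-1) * x ^ 2 + (-1) * x ^ 3 + (-2) * x ^ 4 + (-2) * x ^ 5 + (-2) * x ^ 6 + (-2) * x ^ 7 + (-2) * x ^ 8 + (-2) * x ^ 9 + (-1) * x ^ 10 + (-1) * x ^ 11 + (-1) * t * x + (-1) * t * x ^ 2 + (-2) * t * x ^ 3 + (-2) * t * x ^ 4 + (-3) * t * x ^ 5 + (-2) * t * x ^ 6 + (-2) * t * x ^ 7 + (-3) * t * x ^ 8 + (-2) * t * x ^ 9 + (-2) * t * x ^ 10 + (-1) * t * x ^ 11 + (-1) * t * x ^ 12 + (-1) * t ^ 2 * x ^ 2 + (-2) * t ^ 2 * x ^ 3 + (-3) * t ^ 2 * x ^ 4 + (-4) * t ^ 2 * x ^ 5 + (-3) * t ^ 2 * x ^ 6 + (-3) * t ^ 2 * x ^ 7 + (-4) * t ^ 2 * x ^ 8 + (-3) * t ^ 2 * x ^ 9 + (-2) * t ^ 2 * x ^ 10 + (-1) * t ^ 2 * x ^ 11) * h2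

/-- [CLS] -/
theorem pkgCls : Cfsg.Agent.Lib.Helper14.PG63.PkgCls.{u} := by
  intro hCH F _ _ _ hcard M hM
  have hch := hCH hcard M hM
  have h2 : (2 : F) = 0 := CharTwo.two_eq_zero
  have h2X : (2 : F[X]) = 0 := by
    rw [show (2 : F[X]) = C (2 : F) from (map_ofNat C 2).symm, h2, C_0]
  have h2M : (2 : Matrix (Fin 4) (Fin 4) F) = 0 := by
    rw [show (2 : Matrix (Fin 4) (Fin 4) F) = algebraMap F (Matrix (Fin 4) (Fin 4) F) (2 : F)
      from (map_ofNat (algebraMap F (Matrix (Fin 4) (Fin 4) F)) 2).symm, h2, map_zero]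
  have hneg : ∀ A : Matrix (Fin 4) (Fin 4) F, A + 1 = 0 → A = 1 := by
    intro A hA
    have h1 : A = -1 := eq_neg_of_add_eq_zero_left hA
    rw [h1]
    have h3 : (-1 : Matrix (Fin 4) (Fin 4) F) = 1 - 2 := by norm_num
    rw [h3, h2M, sub_zero]
  have h8 : M.trace ^ 8 = M.trace := by
    have h := FiniteField.pow_card M.trace
    rwa [hcard] at h
  have hprod : M.trace * (M.trace + 1) * (M.trace ^ 3 + M.trace + 1) *
      (M.trace ^ 3 + M.trace ^ 2 + 1) = 0 := by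
    linear_combination h8 + (M.trace + M.trace ^ 2 + M.trace ^ 3 + 2 * M.trace ^ 4 +
      2 * M.trace ^ 5 + M.trace ^ 6 + M.trace ^ 7) * h2
  have haev : ∀ c : F, Polynomial.aeval M
      (X ^ 4 + C c * X ^ 3 + C c ^ 4 * X ^ 2 + C c * X + 1 : F[X]) =
      M ^ 4 + c • M ^ 3 + c ^ 4 • M ^ 2 + c • M + 1 := by
    intro c
    simp [Algebra.smul_def]
  rcases mul_eq_zero.mp hprod with h | h
  · rcases mul_eq_zero.mp h with h | h
    · rcases mul_eq_zero.mp h with h | h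
      · -- trace = 0
        left
        refine ⟨h, ?_⟩
        rw [h] at hch
        apply hneg
        simpa using hch
      · -- trace = 1
        right; left
        have hc : M.trace = 1 := by linear_combination h - h2
        refine ⟨hc, ?_⟩
        rw [hc] at hch
        have hp := congrArg (Polynomial.aeval M) (poly5_80 h2X (X : F[X]))
        have hp1 : Polynomial.aeval M (X ^ 4 + X ^ 3 + X ^ 2 + X + 1 : F[X]) = 0 := by
          have h0 := haev 1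
          simp only [C_1, one_mul, one_pow, one_smul] at h0
          rw [h0]
          simpa using hch
        rw [map_mul, hp1, zero_mul] at hp
        apply hneg
        simpa using hp
    · -- trace ^ 3 = trace + 1
      right; right; left
      have hc : M.trace ^ 3 = M.trace + 1 := by linear_combination h - (M.trace + 1) * h2
      refine ⟨hc, ?_⟩
      have hcX : (C M.trace : F[X]) ^ 3 = C M.trace + 1 := by
        rw [← C_pow, hc, C_add, C_1]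
      have hp := congrArg (Polynomial.aeval M) (poly7_80 h2X (C M.trace) (X : F[X]) hcX)
      rw [map_mul, haev, hch, zero_mul] at hp
      apply hneg
      simpa using hp
  · -- trace ^ 3 = trace ^ 2 + 1
    right; right; right
    have hc : M.trace ^ 3 = M.trace ^ 2 + 1 := by
      linear_combination h - (M.trace ^ 2 + 1) * h2
    refine ⟨hc, ?_⟩
    have hcX : (C M.trace : F[X]) ^ 3 = C M.trace ^ 2 + 1 := by
      rw [← C_pow, hc, C_add, C_1, C_pow]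
    have hp := congrArg (Polynomial.aeval M) (poly13_80 h2X (C M.trace) (X : F[X]) hcX)
    rw [map_mul, haev, hch, zero_mul] at hp
    apply hneg
    simpa using hp

end Cfsg.Agent.Lib.Helper80.PG63
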